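import Groth.Agent.GenSubLib.Main
import Groth.Agent.GenSubLib.AlgClosed
import Groth.Agent.GrpQuotLib.KerGrp
import Groth.Agent.MonoFibre.AntiAffinePart
import Groth.Agent.MonoFibre.KerAntiAffine
import Groth.Agent.MonoFibre.SchemeImage
import Groth.Agent.ObsLib.IdComp
import Groth.Agent.ProjActLib.AffineQuot
import Groth.Agent.GrpSchLib.Dimension
import Groth.Agent.ASp.PropDescend

/-!
# The linear part of a normal subgroup
-/

set_option autoImplicit false
set_option backward.isDefEq.respectTransparency false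
set_option linter.unusedSectionVars false

universe u

open CategoryTheory CategoryTheory.Limits MonoidalCategory CartesianMonoidalCategory MonObj GrpObj AlgebraicGeometry

noncomputable section

namespace Groth.Agent.LinPartLib

open GenSubLib (base₀ exists_pt exists_lift_of_range)

variable {k : Type u} [Field k] [IsAlgClosed k]

/-- Stability under conjugation by rational points is normality. -/
theorem normal_of_pts {G N : Over (Spec (CommRingCat.of k))} [GrpObj G] [GrpObj N] [Smooth G.hom] [Smooth N.hom]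
    (i : N ⟶ G) [IsClosedImmersion i.left]
    (h : ∀ (g : 𝟙_ (Over (Spec (CommRingCat.of k))) ⟶ G) (n : 𝟙_ (Over (Spec (CommRingCat.of k))) ⟶ N),
      (g * (n ≫ i) * g⁻¹).left base₀ ∈ Set.range i.left) : AlgGrp.IsNormalHom i := by
  let φ : N ⊗ G ⟶ G := snd N G * (fst N G ≫ i) * (snd N G)⁻¹
  haveI : Smooth (N ⊗ G).hom := inferInstanceAs (Smooth (pullback.fst N.hom G.hom ≫ N.hom))
  haveI : IsReduced (N ⊗ G).left := ASp.isReduced_of_smooth (N ⊗ G).hom
  haveI : LocallyOfFiniteType (N ⊗ G).hom := inferInstance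
  haveI : JacobsonSpace (N ⊗ G).left := LocallyOfFiniteType.jacobsonSpace (N ⊗ G).hom
  have hsub : Set.range φ.left ⊆ Set.range i.left := by
    rintro _ ⟨p, rfl⟩
    have hcl : IsClosed (φ.left ⁻¹' Set.range i.left) :=
      i.left.isClosedEmbedding.isClosed_range.preimage φ.left.continuous
    by_contra hp
    obtain ⟨z, hz, hz'⟩ := nonempty_inter_closedPoints (X := (N ⊗ G).left) (Z := (φ.left ⁻¹' Set.range i.left)ᶜ)
      ⟨p, hp⟩ hcl.isOpen_compl.isLocallyClosed
    obtain ⟨c, hc⟩ := exists_pt hz'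
    refine hz ?_
    rw [Set.mem_preimage, ← hc, ← Scheme.Hom.comp_apply, ← Over.comp_left]
    have h2 := h (c ≫ snd N G) (c ≫ fst N G)
    simpa only [φ, MonObj.comp_mul, GrpObj.comp_inv, Category.assoc] using h2
  obtain ⟨Φ, hΦ⟩ := exists_lift_of_range i φ hsub
  intro T g n
  refine ⟨lift n g ≫ Φ, ?_⟩
  rw [Category.assoc, hΦ]
  simp only [φ, MonObj.comp_mul, GrpObj.comp_inv, lift_snd, lift_fst_assoc]

variable {G K N NK : Over (Spec (CommRingCat.of k))} [GrpObj G] [GrpObj K] [GrpObj N] [GrpObj NK]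

theorem main [Smooth G.hom] [QuasiCompact G.hom]
    (j : K ⟶ G) [IsMonHom j] [IsClosedImmersion j.left] (hK : AlgGrp.IsNormalHom j)
    (i : N ⟶ G) [IsMonHom i] [IsClosedImmersion i.left]
    [Smooth N.hom] [ConnectedSpace ↥N.left] [IsAffine N.left] (hN : AlgGrp.IsNormalHom i)
    (hNmax : ∀ (N' : Over (Spec (CommRingCat.of k))) [GrpObj N'] (i' : N' ⟶ G) [IsMonHom i'] [IsClosedImmersion i'.left]
      [Smooth N'.hom] [ConnectedSpace ↥N'.left] [IsAffine N'.left], AlgGrp.IsNormalHom i' → ∃ f : N' ⟶ N, f ≫ i = i')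
    (iK : NK ⟶ K) [IsMonHom iK] [IsClosedImmersion iK.left]
    [Smooth NK.hom] [ConnectedSpace ↥NK.left] [IsAffine NK.left] (hNK : AlgGrp.IsNormalHom iK)
    (hNKmax : ∀ (N' : Over (Spec (CommRingCat.of k))) [GrpObj N'] (i' : N' ⟶ K) [IsMonHom i'] [IsClosedImmersion i'.left]
      [Smooth N'.hom] [ConnectedSpace ↥N'.left] [IsAffine N'.left], AlgGrp.IsNormalHom i' → ∃ f : N' ⟶ NK, f ≫ iK = i') :
    (∃ g : NK ⟶ N, g ≫ i = iK ≫ j) ∧
      topologicalKrullDim ↥NK.left = topologicalKrullDim ↥(pullback j.left i.left) := by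
  haveI : LocallyOfFiniteType G.hom := inferInstance
  haveI : LocallyOfFiniteType K.hom := by rw [← Over.w j]; infer_instance
  haveI : QuasiCompact K.hom := by rw [← Over.w j]; infer_instance
  haveI : Mono j := Over.mono_of_mono_left j
  haveI : Mono i := Over.mono_of_mono_left i
  haveI : Mono iK := Over.mono_of_mono_left iK
  haveI : IsReduced NK.left := ASp.isReduced_of_smooth NK.hom
  -- conjugation of the linear part of `K` by a rational point of `G`
  have hnorm : AlgGrp.IsNormalHom (iK ≫ j) := by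
    haveI : IsClosedImmersion (iK ≫ j).left := by rw [Over.comp_left]; infer_instance
    refine normal_of_pts (iK ≫ j) fun g n => ?_
    -- the conjugate embedding
    obtain ⟨c, hc⟩ := hK NK (toUnit NK ≫ g) iK
    replace hc := hc.symm
    haveI : IsMonHom c := by
      refine ⟨(cancel_mono j).1 ?_, (cancel_mono j).1 ?_⟩
      · rw [Category.assoc, hc, MonObj.comp_mul, MonObj.comp_mul, GrpObj.comp_inv, IsMonHom.one_hom (iK ≫ j),
          IsMonHom.one_hom j, ← Category.assoc, show η[NK] ≫ toUnit NK = 𝟙 _ from toUnit_unique _ _, Category.id_comp,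
          show η[G] = (1 : 𝟙_ _ ⟶ G) by rw [Hom.one_def, toUnit_unit, Category.id_comp], _root_.mul_one, mul_inv_cancel]
      · rw [Category.assoc, Category.assoc, hc, IsMonHom.mul_hom j, ← Category.assoc, tensorHom_comp_tensorHom, hc,
          MonObj.comp_mul, MonObj.comp_mul, GrpObj.comp_inv, IsMonHom.mul_hom (iK ≫ j),
          ← Category.assoc μ[NK], toUnit_unique (μ[NK] ≫ toUnit NK) (toUnit _)]
        rw [show μ[G] = fst G G * snd G G by rw [Hom.mul_def, lift_fst_snd, Category.id_comp], MonObj.comp_mul,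
          MonObj.comp_mul, tensorHom_fst, tensorHom_snd, tensorHom_fst, tensorHom_snd]
        simp only [MonObj.comp_mul, GrpObj.comp_inv, ← Category.assoc, toUnit_unique (fst NK NK ≫ toUnit NK) (toUnit _),
          toUnit_unique (snd NK NK ≫ toUnit NK) (toUnit _)]
        group
    haveI : IsClosedImmersion c.left := by
      haveI hJ : IsClosedImmersion (c.left ≫ j.left) := by
        rw [← Over.comp_left, hc]
        let τ : G ⟶ G := (toUnit G ≫ g) * 𝟙 G * (toUnit G ≫ g)⁻¹
        let τ' : G ⟶ G := (toUnit G ≫ g)⁻¹ * 𝟙 G * (toUnit G ≫ g)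
        have h1 : τ ≫ τ' = 𝟙 G := by
          simp only [τ', MonObj.comp_mul, GrpObj.comp_inv, ← Category.assoc, toUnit_unique (τ ≫ toUnit G) (toUnit G),
            Category.comp_id, τ]
          group
        have h2 : τ' ≫ τ = 𝟙 G := by
          simp only [τ, MonObj.comp_mul, GrpObj.comp_inv, ← Category.assoc, toUnit_unique (τ' ≫ toUnit G) (toUnit G),
            Category.comp_id, τ']
          group
        haveI : IsIso τ := ⟨τ', h1, h2⟩
        haveI : IsIso τ.left := inferInstanceAs (IsIso ((Over.forget _).map τ))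
        have e : (toUnit NK ≫ g) * (iK ≫ j) * (toUnit NK ≫ g)⁻¹ = (iK ≫ j) ≫ τ := by
          simp only [τ, MonObj.comp_mul, GrpObj.comp_inv, ← Category.assoc,
            toUnit_unique ((iK ≫ j) ≫ toUnit G) (toUnit NK), Category.comp_id]
        rw [e, Over.comp_left]
        infer_instance
      exact IsClosedImmersion.of_comp c.left j.left
    haveI : Mono c := Over.mono_of_mono_left c
    have hcn : AlgGrp.IsNormalHom c := by
      intro T x y
      obtain ⟨x', hx'⟩ := hK T (toUnit T ≫ g)⁻¹ x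
      obtain ⟨y', hy'⟩ := hNK T x' y
      replace hx' := hx'.symm
      replace hy' := hy'.symm
      refine ⟨y', ?_⟩
      rw [← cancel_mono j, Category.assoc, hc, MonObj.mul_comp, MonObj.mul_comp, GrpObj.inv_comp]
      simp only [MonObj.comp_mul, GrpObj.comp_inv, ← Category.assoc, toUnit_unique (y' ≫ toUnit NK) (toUnit T)]
      rw [hy', MonObj.mul_comp, MonObj.mul_comp, GrpObj.inv_comp, hx', Category.assoc y, Category.assoc y, hc,
        MonObj.comp_mul, MonObj.comp_mul, GrpObj.comp_inv, ← Category.assoc, toUnit_unique (y ≫ toUnit NK) (toUnit T)]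
      group
    obtain ⟨f, hf⟩ := hNKmax NK c hcn
    refine ⟨(n ≫ f).left base₀, ?_⟩
    rw [← Scheme.Hom.comp_apply, ← Over.comp_left]
    have h3 : (n ≫ f) ≫ iK ≫ j = g * (n ≫ iK ≫ j) * g⁻¹ := by
      rw [Category.assoc, ← Category.assoc f, hf, hc]
      simp only [MonObj.comp_mul, GrpObj.comp_inv, ← Category.assoc, toUnit_unique (n ≫ toUnit NK) (𝟙 _), Category.id_comp]
    rw [h3]
  obtain ⟨gN, hgN⟩ : ∃ g : NK ⟶ N, g ≫ i = iK ≫ j := by
    haveI : IsClosedImmersion (iK ≫ j).left := by rw [Over.comp_left]; infer_instance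
    exact hNmax NK (iK ≫ j) hnorm
  refine ⟨⟨gN, hgN⟩, ?_⟩
  -- the intersection
  let P := Limits.pullback j i
  let p₁ : P ⟶ K := Limits.pullback.fst j i
  let p₂ : P ⟶ N := Limits.pullback.snd j i
  have hp : p₁ ≫ j = p₂ ≫ i := Limits.pullback.condition
  have sq := GrpQuotLib.isPullback_left (IsPullback.of_hasPullback j i)
  haveI : IsClosedImmersion p₁.left := MorphismProperty.of_isPullback sq.flip ‹IsClosedImmersion i.left›
  haveI : IsClosedImmersion p₂.left := MorphismProperty.of_isPullback sq ‹IsClosedImmersion j.left›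
  let pG : P ⟶ G := p₁ ≫ j
  haveI : IsClosedImmersion pG.left := by rw [Over.comp_left]; infer_instance
  obtain ⟨hP, hpG⟩ := MonoFibre.SchemeImage.exists_grpObj pG
    ⟨Limits.pullback.lift η[K] η[N] (by rw [IsMonHom.one_hom j, IsMonHom.one_hom i]), by
      rw [← Category.assoc, show Limits.pullback.lift η[K] η[N] _ ≫ p₁ = η[K] from Limits.pullback.lift_fst _ _ _,
        IsMonHom.one_hom j]⟩
    (fun T x y => ⟨Limits.pullback.lift ((x ≫ p₁)⁻¹ * (y ≫ p₁)) ((x ≫ p₂)⁻¹ * (y ≫ p₂)) (by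
      simp only [MonObj.mul_comp, GrpObj.inv_comp, Category.assoc, hp]), by
      rw [← Category.assoc, show Limits.pullback.lift ((x ≫ p₁)⁻¹ * (y ≫ p₁)) ((x ≫ p₂)⁻¹ * (y ≫ p₂)) _ ≫ p₁ =
        (x ≫ p₁)⁻¹ * (y ≫ p₁) from Limits.pullback.lift_fst _ _ _, MonObj.mul_comp, GrpObj.inv_comp, Category.assoc,
        Category.assoc]⟩)
  letI := hP
  haveI := hpG
  haveI : Mono pG := Over.mono_of_mono_left pG
  haveI : LocallyOfFiniteType P.hom := by rw [← Over.w pG]; infer_instance
  haveI : QuasiCompact P.hom := by rw [← Over.w pG]; infer_instance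
  obtain ⟨P₀, hP₀, i₀, hi₀, hi₀o, hr₀⟩ := ObsLib.exists_identityComponent P
  letI := hP₀
  haveI := hi₀; haveI := hi₀o
  haveI : Mono i₀ := Over.mono_of_mono_left i₀
  haveI : IsClosedImmersion i₀.left := IsClosedImmersion.of_isPreimmersion i₀.left
    (GrpSchLib.isClosed_range_of_isOpen i₀ i₀.left.isOpenEmbedding.isOpen_range)
  haveI : LocallyOfFiniteType P₀.hom := by rw [← Over.w i₀]; infer_instance
  haveI : QuasiCompact P₀.hom := by rw [← Over.w i₀]; infer_instance
  haveI : ConnectedSpace P₀.left := connectedSpace_iff_univ.mpr (by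
    refine i₀.left.isOpenEmbedding.isInducing.isPreconnected_image.mp ?_ |> fun h => ⟨⟨GrpSchLib.unitPt P₀, trivial⟩, h⟩
    rw [Set.image_univ]
    exact hr₀ ▸ isPreconnected_connectedComponent)
  obtain ⟨P₁, hP₁, i₁, hi₁, hi₁c, hi₁r, hi₁s⟩ := ProjActLib.exists_red P₀
  letI := hP₁
  haveI := hi₁; haveI := hi₁c; haveI := hi₁r; haveI := hi₁s
  haveI : Mono i₁ := Over.mono_of_mono_left i₁
  haveI : LocallyOfFiniteType P₁.hom := by rw [← Over.w i₁]; infer_instance
  haveI : Smooth P₁.hom := GrpSchLib.smooth_of_isReduced P₁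
  let e₁ := i₁.left.isClosedEmbedding.isEmbedding.toHomeomorphOfSurjective i₁.left.surjective
  haveI : ConnectedSpace P₁.left := e₁.connectedSpace_iff.2 inferInstance
  haveI : IsClosedImmersion (i₁ ≫ i₀).left := by rw [Over.comp_left]; infer_instance
  let a : P₁ ⟶ K := (i₁ ≫ i₀) ≫ p₁
  haveI : IsMonHom p₁ := ⟨(cancel_mono j).1 ((Category.assoc _ _ _).trans ((IsMonHom.one_hom pG).trans (IsMonHom.one_hom j).symm)),
    (cancel_mono j).1 (by
      rw [Category.assoc, show p₁ ≫ j = pG from rfl, IsMonHom.mul_hom pG, Category.assoc, IsMonHom.mul_hom j,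
        tensorHom_comp_tensorHom_assoc])⟩
  haveI : IsClosedImmersion a.left := by rw [Over.comp_left]; infer_instance
  haveI : IsAffine P₁.left := by
    haveI : IsClosedImmersion ((i₁ ≫ i₀) ≫ p₂).left := by rw [Over.comp_left]; infer_instance
    exact isAffine_of_isAffineHom ((i₁ ≫ i₀) ≫ p₂).left
  -- normal in `G`
  have hP₁n : AlgGrp.IsNormalHom (a ≫ j) := by
    haveI : IsClosedImmersion (a ≫ j).left := by rw [Over.comp_left]; infer_instance
    refine normal_of_pts (a ≫ j) fun g n => ?_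
    obtain ⟨c₁, hc₁⟩ := hK P (toUnit P ≫ g) p₁
    obtain ⟨c₂, hc₂⟩ := hN P (toUnit P ≫ g) p₂
    replace hc₁ := hc₁.symm
    replace hc₂ := hc₂.symm
    let c : P ⟶ P := Limits.pullback.lift c₁ c₂ (by rw [hc₁, hc₂, hp])
    have hc : c ≫ pG = (toUnit P ≫ g) * pG * (toUnit P ≫ g)⁻¹ := by
      rw [show c ≫ pG = (c ≫ p₁) ≫ j from (Category.assoc _ _ _).symm,
        show c ≫ p₁ = c₁ from Limits.pullback.lift_fst _ _ _, hc₁]
    have hone : η[P] ≫ c = η[P] := by
      rw [← cancel_mono pG, Category.assoc, hc, MonObj.comp_mul, MonObj.comp_mul, GrpObj.comp_inv, IsMonHom.one_hom pG,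
        ← Category.assoc, show η[P] ≫ toUnit P = 𝟙 _ from toUnit_unique _ _, Category.id_comp,
        show η[G] = (1 : 𝟙_ _ ⟶ G) by rw [Hom.one_def, toUnit_unit, Category.id_comp], _root_.mul_one, mul_inv_cancel]
    have hu : c.left (GrpSchLib.unitPt P) = GrpSchLib.unitPt P := by
      obtain ⟨y⟩ : Nonempty ((𝟙_ (Over (Spec (CommRingCat.of k)))).left : Scheme.{u}) := ⟨base₀⟩
      have h2 : η[P].left y = GrpSchLib.unitPt P := GrpSchLib.range_unit.le ⟨y, rfl⟩
      rw [← h2, ← Scheme.Hom.comp_apply, ← Over.comp_left, hone]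
    have hmem : c.left (((n ≫ i₁) ≫ i₀).left base₀) ∈ connectedComponent (GrpSchLib.unitPt P) :=
      (isPreconnected_connectedComponent.image c.left c.left.continuous.continuousOn).subset_connectedComponent
        ⟨_, mem_connectedComponent, hu⟩ ⟨_, hr₀.le ⟨(n ≫ i₁).left base₀, rfl⟩, rfl⟩
    obtain ⟨z, hz⟩ := hr₀.ge hmem
    obtain ⟨w, hw⟩ := i₁.left.surjective z
    refine ⟨w, ?_⟩
    have e : g * (n ≫ a ≫ j) * g⁻¹ = ((n ≫ i₁) ≫ i₀) ≫ c ≫ pG := by
      rw [hc]
      simp only [MonObj.comp_mul, GrpObj.comp_inv, a, pG, ← Category.assoc,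
        toUnit_unique (((n ≫ i₁) ≫ i₀) ≫ toUnit P) (𝟙 _), Category.id_comp]
    rw [e]
    simp only [Over.comp_left, Scheme.Hom.comp_apply, a, pG] at hz ⊢
    rw [← hz, ← hw]
  obtain ⟨f, hf⟩ := hNKmax P₁ a (fun T x y => by
    obtain ⟨y', hy'⟩ := hP₁n T (x ≫ j) y
    replace hy' := hy'.symm
    refine ⟨y', (cancel_mono j).1 ?_⟩
    rw [Category.assoc, hy', MonObj.mul_comp, MonObj.mul_comp, GrpObj.inv_comp, Category.assoc])
  -- the reverse inclusion
  let l : NK ⟶ P := Limits.pullback.lift iK gN hgN.symm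
  have hl : l ≫ p₁ = iK := Limits.pullback.lift_fst _ _ _
  haveI : Mono p₁ := Over.mono_of_mono_left p₁
  haveI : IsMonHom l := ⟨(cancel_mono p₁).1 (by rw [Category.assoc, hl, IsMonHom.one_hom, IsMonHom.one_hom p₁]),
    (cancel_mono p₁).1 (by
      rw [Category.assoc, hl, IsMonHom.mul_hom iK, Category.assoc, IsMonHom.mul_hom p₁, tensorHom_comp_tensorHom_assoc, hl])⟩
  obtain ⟨m, hm⟩ := exists_lift_of_range (i₁ ≫ i₀) l (by
    intro z hz
    obtain ⟨w, rfl⟩ := MonoFibre.AntiAffinePart.range_subset_of_connected l i₀ hz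
    obtain ⟨v, rfl⟩ := i₁.left.surjective w
    exact ⟨v, rfl⟩)
  haveI : Mono a := Over.mono_of_mono_left a
  have hfm : f ≫ m = 𝟙 P₁ := by
    rw [← cancel_mono a, Category.assoc, show m ≫ a = iK from by rw [← Category.assoc, hm, hl], hf, Category.id_comp]
  have hmf : m ≫ f = 𝟙 NK := by
    rw [← cancel_mono iK, Category.assoc, hf, ← Category.assoc, hm, hl, Category.id_comp]
  haveI : IsIso m := ⟨f, hmf, hfm⟩
  haveI : IsIso m.left := inferInstanceAs (IsIso ((Over.forget _).map m))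
  rw [(m.left.homeomorph.trans e₁).isHomeomorph.topologicalKrullDim_eq, ← sq.isoPullback.hom.homeomorph.isHomeomorph.topologicalKrullDim_eq]
  -- the identity component has the full dimension
  obtain ⟨y⟩ : Nonempty ((𝟙_ (Over (Spec (CommRingCat.of k)))).left : Scheme.{u}) := ⟨base₀⟩
  have h0 : i₀.left (η[P₀].left y) = η[P].left y := by
    rw [← Scheme.Hom.comp_apply, ← Over.comp_left, IsMonHom.one_hom i₀]
  rw [← GrpSchLib.ringKrullDim_stalk_eq_topologicalKrullDim P₀ (η[P₀].left base₀) (GenSubLib.isClosed_pt η[P₀]),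
    ← GrpSchLib.ringKrullDim_stalk_eq_topologicalKrullDim P (i₀.left (η[P₀].left base₀)) (by
      rw [← Scheme.Hom.comp_apply, ← Over.comp_left]; exact GenSubLib.isClosed_pt _)]
  exact (ringKrullDim_eq_of_ringEquiv (asIso (i₀.left.stalkMap (η[P₀].left base₀))).commRingCatIsoToRingEquiv).symm

end Groth.Agent.LinPartLib
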